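import Cfsg.Agent.H18.Carter.Rows
import Cfsg.Agent.H507.GmnSp
import Cfsg.Agent.H507.GmnOrthRows
import Cfsg.Agent.H507.GmnTwF
import Cfsg.Agent.H696.GmnInv
import Cfsg.Agent.H696.GmnTwD4
import Cfsg.Agent.H712.GmnAb
import Cfsg.Agent.H67.SzOdd

/-!
# S3852: the rows in characteristic two with `-1` in the Weyl group, and the Suzuki groups

`PowConj X` (every element of odd prime order is conjugate to a proper power of itself) for
`PSp_{2m}(q)`, `PΩ^±_{2m}(q)` (`m` even), `G₂(q)`, `F₄(q)`, `E₇(q)`, `E₈(q)`, `³D₄(q)`, `²F₄(q)`, `q` even, and `Sz(q)`.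
-/

set_option autoImplicit false
set_option linter.unusedSectionVars false

namespace Cfsg.Agent.H518.Carter

open Cfsg Cfsg.Lie Subgroup Cfsg.Agent.H18.Carter
open Cfsg.Agent.ClassicalGeometry.OrthCharTwo Cfsg.Agent.ClassicalGeometry.OmegaIndex
  Cfsg.Agent.ClassicalGeometry.OrthDickson Cfsg.Agent.LieClassical.OrthCore Cfsg.Agent.GenOrth
  Cfsg.Agent.LieClassical.OmegaReindex Cfsg.Agent.BpExc.RowsUntw Cfsg.Agent.H507.GmnOrth

universe u

section Gen

/-- from real elements -/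
theorem of_real {K : Type*} [Group K] (h : ∀ p : ℕ, p.Prime → p ≠ 2 → ∀ z : K, z ^ p = 1 → IsConj z z⁻¹) : PowConj K := by
  intro z hz hz2
  obtain ⟨g, hg⟩ := isConj_iff.1 (h _ hz hz2 z (pow_orderOf_eq_one z))
  refine ⟨g, ?_, ?_⟩
  · rw [hg]; exact ne_inv_of_odd hz hz2
  · rw [hg]; exact inv_mem (mem_zpowers z)

/-- from conjugacy to a power `z ^ k`, `k` not `1` modulo `p` -/
theorem of_pow {K : Type*} [Group K]
    (h : ∀ p : ℕ, p.Prime → p ≠ 2 → ∀ z : K, z ^ p = 1 → ∃ k : ℕ, ¬ k ≡ 1 [MOD p] ∧ IsConj z (z ^ k)) : PowConj K := by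
  intro z hz hz2
  obtain ⟨k, hk, hc⟩ := h _ hz hz2 z (pow_orderOf_eq_one z)
  obtain ⟨g, hg⟩ := isConj_iff.1 hc
  refine ⟨g, ?_, ?_⟩
  · rw [hg]
    intro h1
    apply hk
    rw [← pow_eq_pow_iff_modEq, h1, pow_one]
  · rw [hg]; exact pow_mem (mem_zpowers z) k

/-- simple groups with cyclic Sylow subgroups for all odd primes -/
theorem of_cyclic {K : Type*} [Group K] [Finite K] [IsSimpleGroup K] (hna : ¬ ∀ x y : K, x * y = y * x)
    (h : ∀ p : ℕ, p.Prime → p ≠ 2 → ∀ Q : Sylow p K, IsCyclic (Q : Subgroup K)) : PowConj K := by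
  intro z hz hz2
  have hfp : Fact (orderOf z).Prime := ⟨hz⟩
  set p := orderOf z with hp
  have hzp : IsPGroup p (zpowers z) := IsPGroup.of_card (n := 1) (by rw [Nat.card_zpowers, pow_one])
  obtain ⟨Q, hQ⟩ := hzp.exists_le_sylow
  have hzQ : z ∈ Q := hQ (mem_zpowers z)
  have hcy := h p hz hz2 Q
  by_contra hcon
  push Not at hcon
  have hd : p ∣ Nat.card K := orderOf_dvd_natCard z
  have hzne : z ≠ 1 := fun h1 => hz.one_lt.ne' (by rw [hp, h1, orderOf_one])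
  -- every element of order `p` in `Q` is a power of `z`
  have hom : ∀ x ∈ Q, x ^ p = 1 → x ∈ zpowers z := by
    intro x hx hxp
    have h1 : (⟨x, hx⟩ : (Q : Subgroup K)) ∈ zpowers (⟨z, hzQ⟩ : (Q : Subgroup K)) := by
      classical
      let _ : Fintype (Q : Subgroup K) := Fintype.ofFinite _
      have h2 := IsCyclic.card_pow_eq_one_le (α := (Q : Subgroup K)) (n := p) hz.pos
      have h3 : (Finset.univ.filter fun a : (Q : Subgroup K) => a ∈ zpowers (⟨z, hzQ⟩ : (Q : Subgroup K))).card = p := by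
        rw [← Fintype.card_subtype]
        have h4 : Fintype.card {a : (Q : Subgroup K) // a ∈ zpowers (⟨z, hzQ⟩ : (Q : Subgroup K))} =
            Nat.card (zpowers (⟨z, hzQ⟩ : (Q : Subgroup K))) := by
          rw [Nat.card_eq_fintype_card]
        rw [h4, Nat.card_zpowers, Subgroup.orderOf_mk]
      have h5 : (Finset.univ.filter fun a : (Q : Subgroup K) => a ∈ zpowers (⟨z, hzQ⟩ : (Q : Subgroup K))) ⊆
          Finset.univ.filter fun a : (Q : Subgroup K) => a ^ p = 1 := by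
        intro a ha
        rw [Finset.mem_filter] at ha ⊢
        refine ⟨Finset.mem_univ _, ?_⟩
        obtain ⟨n, rfl⟩ := mem_zpowers_iff.1 ha.2
        have h6 : (⟨z, hzQ⟩ : (Q : Subgroup K)) ^ p = 1 := Subtype.ext (pow_orderOf_eq_one z)
        rw [← zpow_natCast, ← zpow_mul, mul_comm, zpow_mul, zpow_natCast, h6, one_zpow]
      have h6 := Finset.eq_of_subset_of_card_le h5 (by rw [h3]; exact h2)
      have h7 : (⟨x, hx⟩ : (Q : Subgroup K)) ∈ Finset.univ.filter fun a : (Q : Subgroup K) => a ^ p = 1 := by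
        rw [Finset.mem_filter]
        exact ⟨Finset.mem_univ _, Subtype.ext hxp⟩
      rw [← h6, Finset.mem_filter] at h7
      exact h7.2
    obtain ⟨n, hn⟩ := mem_zpowers_iff.1 h1
    exact mem_zpowers_iff.2 ⟨n, congrArg Subtype.val hn⟩
  refine H712.Gmn.not_normalizer_le_centralizer hna hd Q (H712.Gmn.centralizes_of_omega Q (fun x hx y hy => ?_) ?_)
  · have h1 : (⟨x, hx⟩ : (Q : Subgroup K)) * ⟨y, hy⟩ = ⟨y, hy⟩ * ⟨x, hx⟩ := by
      let _ : CommGroup (Q : Subgroup K) := IsCyclic.commGroup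
      exact mul_comm _ _
    exact congrArg Subtype.val h1
  · intro s hs x hx hxp
    have h1 : s * z * s⁻¹ = z := by
      by_contra h2
      refine hcon s h2 (hom _ ((mem_normalizer_iff.1 hs z).1 hzQ) ?_)
      rw [conj_pow, pow_orderOf_eq_one, mul_one, mul_inv_cancel]
    obtain ⟨n, rfl⟩ := mem_zpowers_iff.1 (hom x hx hxp)
    rw [← conj_zpow, h1]

end Gen

section Rows

variable {F : Type} [Field F] [Fintype F] [CharP F 2]

theorem cast_ne {p : ℕ} (hp : p.Prime) (hp2 : p ≠ 2) : (p : F) ≠ 0 := by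
  intro h
  have h1 := (CharP.cast_eq_zero_iff F 2 p).1 h
  exact hp2 ((Nat.prime_dvd_prime_iff_eq Nat.prime_two hp).1 h1).symm

theorem psp (m : ℕ) : PowConj (PSp m F) :=
  of_real fun _ hp hp2 _ hz => isConj_iff.2 (H507.GmnSp.conj_inv hp hp2 (cast_ne hp hp2) hz)

theorem g2 : PowConj ↥(chevG2.group F) := by
  have : Fact (Nat.Prime 2) := ⟨Nat.prime_two⟩
  refine of_real fun p hp hp2 z hz => ?_
  have : Fact p.Prime := ⟨hp⟩
  exact Cfsg.Agent.H696.GmnInv.isConj_inv_two g2T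
    (Cfsg.Agent.H696.GmnUntw.center_eq_bot_of_simple (S1055.result (Cfsg.Agent.BpExc.FamInst.exists_ne_algClosed _)))
    (Cfsg.Agent.H696.GmnNeg.negG2 g2T _) hp hp2 hz

theorem f4 : PowConj ↥(chevF4.group F) := by
  have : Fact (Nat.Prime 2) := ⟨Nat.prime_two⟩
  refine of_real fun p hp hp2 z hz => ?_
  exact Cfsg.Agent.H696.GmnInv.isConj_inv_two f4T
    (Cfsg.Agent.H696.GmnUntw.center_eq_bot_of_simple (S1054.result chevF4 (by simp)))
    (Cfsg.Agent.H696.GmnNeg.negF4 f4T _) hp hp2 hz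

theorem e7 : PowConj ↥(chevE7.group F) := by
  have : Fact (Nat.Prime 2) := ⟨Nat.prime_two⟩
  refine of_real fun p hp hp2 z hz => ?_
  exact Cfsg.Agent.H696.GmnInv.isConj_inv_two e7T
    (Cfsg.Agent.H696.GmnUntw.center_eq_bot_of_simple (S1054.result chevE7 (by simp)))
    (Cfsg.Agent.H696.GmnNeg.negE7 e7T _) hp hp2 hz

theorem e8 : PowConj ↥(chevE8.group F) := by
  have : Fact (Nat.Prime 2) := ⟨Nat.prime_two⟩
  refine of_real fun p hp hp2 z hz => ?_
  exact Cfsg.Agent.H696.GmnInv.isConj_inv_two e8T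
    (Cfsg.Agent.H696.GmnUntw.center_eq_bot_of_simple (S1054.result chevE8 (by simp)))
    (Cfsg.Agent.H696.GmnNeg.negE8 e8T _) hp hp2 hz

/-- `³D₄(q)`, `q` even -/
theorem d4 {q : ℕ} (hq : IsPrimePow q) (hK : Fintype.card F = q ^ 3) : PowConj ↥(twistedD4 F q) := by
  have : Fact (Nat.Prime 2) := ⟨Nat.prime_two⟩
  obtain ⟨r, n, hr, hn0, hn⟩ := (isPrimePow_nat_iff _).1 hq
  have hr2 : r = 2 := by
    obtain ⟨k, h2, h3⟩ := FiniteField.card F 2
    rw [hK] at h3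
    have h4 : r ∣ 2 ^ (k : ℕ) := by
      rw [← h3, ← hn]
      exact dvd_pow (dvd_pow_self r hn0.ne') (by norm_num)
    exact (Nat.prime_dvd_prime_iff_eq hr Nat.prime_two).1 (hr.dvd_of_dvd_pow h4)
  subst hr2
  refine of_real fun p hp hp2 z hz => ?_
  have : Fact p.Prime := ⟨hp⟩
  exact Cfsg.Agent.H696.GmnTwD4.isConj_inv_d4 (r := 2) hp2 hn0 hn.symm hK hz

/-- `PΩ⁺_{2m}(q)`, `m` and `q` even -/
theorem plus {m : ℕ} (hm : 3 ≤ m) (hev : Even m) : PowConj (POmega F (quadFormPlus m F)) := by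
  have hcard : Fintype.card (Fin m ⊕ Fin m) = 2 * m := by
    simp only [Fintype.card_sum, Fintype.card_fin]
    omega
  have hs : ∃ u : Fin m ⊕ Fin m → F, u ≠ 0 ∧ quadPlus m F u = 0 := by
    refine ⟨Pi.single (Sum.inl ⟨0, by omega⟩) 1, ?_, ?_⟩
    · intro h
      have := congrFun h (Sum.inl ⟨0, by omega⟩)
      rw [Pi.single_eq_same] at this
      exact one_ne_zero this
    · rw [coe_quadPlus, quadFormPlus]
      simp [Pi.single_apply]
  rw [← coe_quadPlus]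
  refine of_pow fun p hp hp2 z hz => ?_
  refine H507.GmnOrthRows.powConj quadPlus_nondegenerate (by rw [hcard]; omega) hs (Or.inr (by rw [hcard]; omega)) hp hp2
    (cast_ne hp hp2) (fun _ _ _ => ?_) z hz
  obtain ⟨c, hc⟩ := hev
  exact Or.inr (by rw [hcard]; omega)

/-- `PΩ⁻_{2m}(q)`, `m` and `q` even -/
theorem minus {m : ℕ} (hm : 3 ≤ m) (hev : Even m) {a b : F}
    (hab : ∀ z₁ z₂ : F, z₁ ^ 2 + a * z₁ * z₂ + b * z₂ ^ 2 = 0 → z₁ = 0 ∧ z₂ = 0) :
    PowConj (POmega F (quadFormMinus (m - 1) F a b)) := by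
  have hcard : Fintype.card ((Fin (m - 1) ⊕ Fin (m - 1)) ⊕ Fin 2) = 2 * m := by
    simp only [Fintype.card_sum, Fintype.card_fin]
    omega
  have hs : ∃ u : (Fin (m - 1) ⊕ Fin (m - 1)) ⊕ Fin 2 → F, u ≠ 0 ∧ quadMinus (m - 1) F a b u = 0 := by
    refine ⟨Pi.single (Sum.inl (Sum.inl ⟨0, by omega⟩)) 1, ?_, ?_⟩
    · intro h
      have := congrFun h (Sum.inl (Sum.inl ⟨0, by omega⟩))
      rw [Pi.single_eq_same] at this
      exact one_ne_zero this
    · rw [coe_quadMinus, quadFormMinus]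
      simp [Pi.single_apply]
  rw [← coe_quadMinus]
  refine of_pow fun p hp hp2 z hz => ?_
  refine H507.GmnOrthRows.powConj (quadMinus_nondegenerate hab) (by rw [hcard]; omega) hs (Or.inr (by rw [hcard]; omega))
    hp hp2 (cast_ne hp hp2) (fun _ _ _ => ?_) z hz
  obtain ⟨c, hc⟩ := hev
  exact Or.inr (by rw [hcard]; omega)

omit [CharP F 2] in
/-- `²F₄(q)` -/
theorem tw {m : ℕ} (hF : Fintype.card F = 2 ^ (2 * m + 1)) : PowConj ↥(twistedF4 F (2 ^ m)) := by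
  intro z hz hz2
  obtain ⟨g, hg⟩ := isConj_iff.1 (H507.GmnTwF.isConj_inv hF z (hz.odd_of_ne_two hz2))
  refine ⟨g, ?_, ?_⟩
  · rw [hg]; exact ne_inv_of_odd hz hz2
  · rw [hg]; exact inv_mem (mem_zpowers z)

omit [CharP F 2] in
/-- `Sz(q)` -/
theorem sz {m : ℕ} (hm : 1 ≤ m) (hF : Fintype.card F = 2 ^ (2 * m + 1)) [IsSimpleGroup ↥(Lie.Sz F (2 ^ (m + 1)))]
    (hna : ¬ ∀ x y : ↥(Lie.Sz F (2 ^ (m + 1))), x * y = y * x) : PowConj ↥(Lie.Sz F (2 ^ (m + 1))) := by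
  refine of_cyclic hna fun p hp hp2 Q => ?_
  have : Fact p.Prime := ⟨hp⟩
  exact Cfsg.Agent.H67.SzOdd.sylow_cyclic hm hF hp2 Q

end Rows

section CC

variable {G : Type u} [Group G] [Finite G] {S : Subgroup G} [S.Normal] (hF : H381.Car.Fpf.{u}) (c : Ctx G S)
  {F : Type} [Field F] [Fintype F]

include hF c

/-- `PSp_{2m}(q)`, `q` even -/
theorem row_psp [CharP F 2] {m : ℕ} (e : ↥S ≃* PSp m F) : CC G :=
  cc_of_powConj hF c ((psp m).of_equiv e.symm)

/-- `PΩ⁺_{2m}(q)`, `m` and `q` even -/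
theorem row_plus [CharP F 2] {m : ℕ} (hm : 3 ≤ m) (hev : Even m) (e : ↥S ≃* POmega F (quadFormPlus m F)) : CC G :=
  cc_of_powConj hF c ((plus hm hev).of_equiv e.symm)

/-- `PΩ⁻_{2m}(q)`, `m` and `q` even -/
theorem row_minus [CharP F 2] {m : ℕ} (hm : 3 ≤ m) (hev : Even m) {a b : F}
    (hab : ∀ z₁ z₂ : F, z₁ ^ 2 + a * z₁ * z₂ + b * z₂ ^ 2 = 0 → z₁ = 0 ∧ z₂ = 0)
    (e : ↥S ≃* POmega F (quadFormMinus (m - 1) F a b)) : CC G :=
  cc_of_powConj hF c ((minus hm hev hab).of_equiv e.symm)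

/-- `G₂(q)`, `q` even -/
theorem row_g2 [CharP F 2] (e : ↥S ≃* ↥(chevG2.group F)) : CC G :=
  cc_of_powConj hF c (g2.of_equiv e.symm)

/-- `F₄(q)`, `q` even -/
theorem row_f4 [CharP F 2] (e : ↥S ≃* ↥(chevF4.group F)) : CC G :=
  cc_of_powConj hF c (f4.of_equiv e.symm)

/-- `E₇(q)`, `q` even -/
theorem row_e7 [CharP F 2] (e : ↥S ≃* ↥(chevE7.group F)) : CC G :=
  cc_of_powConj hF c (e7.of_equiv e.symm)

/-- `E₈(q)`, `q` even -/
theorem row_e8 [CharP F 2] (e : ↥S ≃* ↥(chevE8.group F)) : CC G :=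
  cc_of_powConj hF c (e8.of_equiv e.symm)

/-- `³D₄(q)`, `q` even -/
theorem row_d4 [CharP F 2] {q : ℕ} (hq : IsPrimePow q) (hK : Fintype.card F = q ^ 3) (e : ↥S ≃* ↥(twistedD4 F q)) :
    CC G :=
  cc_of_powConj hF c ((d4 hq hK).of_equiv e.symm)

/-- `²F₄(q)` -/
theorem row_tw (h : Lie.Iso2F4 ↥S) : CC G := by
  obtain ⟨K, _, _, m, -, hK, ⟨e⟩⟩ := h
  exact cc_of_powConj hF c ((tw hK).of_equiv e.symm)

/-- `Sz(q)` -/
theorem row_sz (h : Lie.IsoSuzuki ↥S) : CC G := by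
  obtain ⟨K, _, _, m, hm, hK, ⟨e⟩⟩ := h
  have hs := c.simple
  have hs' : IsSimpleGroup ↥(Lie.Sz K (2 ^ (m + 1))) := e.symm.isSimpleGroup
  refine cc_of_powConj hF c ((sz hm hK fun h => c.na fun a b => e.injective ?_).of_equiv e.symm)
  rw [map_mul, map_mul, h]

end CC

end Cfsg.Agent.H518.Carter
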