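import Cfsg.Agent.H518.Carter.SixTor
import Cfsg.Agent.H321.Ker.AlgY
import Cfsg.Agent.H683.CA.ExMat
import Cfsg.Agent.H206.CA.ExLin

/-!
# The component `SL₆(q)` of the centraliser of `t0` in `E₆(q)` (helper518, S3852, T9)

* `sixJ` : `SixJ (chevE6.group F) (t0 F)` for a finite field `F` of odd characteristic.
-/

set_option autoImplicit false
set_option linter.unusedSectionVars false

namespace Cfsg.Agent.H518.Carter.SixSplit

open CoxeterSystem Subgroup Cfsg Cfsg.Lie Cfsg.Lie.ChevalleyDatum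
open Cfsg.Agent.ChevalleyStructure Cfsg.Agent.ChevalleyStructure.Elts Cfsg.Agent.ChevalleyStructure.CoxeterGeom
  Cfsg.Agent.ChevalleyStructure.CoxeterGeomTypes Cfsg.Agent.ChevalleyStructure.NPerm
open Cfsg.Agent.Tits.Roots Cfsg.Agent.Tits.Core Cfsg.Agent.Nodes Cfsg.Agent.Nodes.Reps Cfsg.Agent.Nodes.BNOf
  Cfsg.Agent.Nodes.RGDChev Cfsg.Agent.Nodes.Bruhat
open Cfsg.Agent.KFacts.RgdField Cfsg.Agent.KFacts.RgdChevCoord
open Cfsg.Agent.BpExc Cfsg.Agent.BpExc.TorCent Cfsg.Agent.BpExc.TorChev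
open Cfsg.Agent.H720.TwFr
open Cfsg.Agent.H607.Car
open Cfsg.Agent.H120.SLHom (rE6 sE6 a5_E6)
open Cfsg.Agent.H92.ExcSL2 (SL2 ph coe_ph phi_up phi_lo OrthB xG_commute commute_of_up_lo)
open Cfsg.Agent.ChevalleyStructure.SL2Rep Cfsg.Agent.ChevalleyStructure.SL2Hom

variable {F : Type} [Field F] [Finite F]

/-- `SL₆(F)` -/
abbrev SL6 (F : Type) [Field F] : Type := Matrix.SpecialLinearGroup (Fin 6) F

/-- `π` is given by root elements on the transvections -/
def IsPi (π : SL6 F →* ↥(chevE6.group F)) : Prop := ∀ i j (hij : i ≠ j) a,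
  ((π (Matrix.SpecialLinearGroup.transvection hij a) : ↥(chevE6.group F)) : GL chevE6.Idx F) =
    xG hp6.inList (rE6 i j) ((sE6 i j : F) * a)

theorem exists_pi : ∃ π : SL6 F →* ↥(chevE6.group F), IsPi π ∧ π.ker ≤ Subgroup.center (SL6 F) := by
  obtain ⟨π, h1, h2⟩ := Cfsg.Agent.H120.SLHom.exists_hom_group (F := F) Cfsg.Agent.KFacts.En.Roots.ty_E6 a5_E6
  refine ⟨π, fun i j hij a => ?_, h2⟩
  rw [h1 i j hij a]
  exact Cfsg.Agent.H120.ChevSys.XG_vec Cfsg.Agent.KFacts.En.Roots.ty_E6 (a5_E6.a i j hij) _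

theorem ss (i j : Fin 6) : ((sE6 i j : ℤ) : F) * (sE6 i j : F) = 1 := by
  rw [← Int.cast_mul, a5_E6.d, Int.cast_one]

variable {π : SL6 F →* ↥(chevE6.group F)} (hπ : IsPi π)

include hπ in
/-- the image of `diag(-1, -1)` in two coordinates -/
theorem pi_diag {i j k : Fin 6} (hij : i ≠ j) (h1 : rE6 i j = chevE6.simple k) (h2 : rE6 j i = chevE6.neg (rE6 i j))
    (h3 : sE6 i j = 1) (h4 : sE6 j i = 1) :
    π (Matrix.SpecialLinearGroup.diag2n hij (-1) neg_ne) = hc hp6 k (-1) := by
  apply Subtype.ext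
  have e : -(-1 : F)⁻¹ = 1 := by rw [inv_neg, inv_one, neg_neg]
  rw [Cfsg.Agent.LieClassical.SLGen.diag2n_decompose, e, map_mul, map_mul, map_mul, map_mul, map_mul, Subgroup.coe_mul,
    Subgroup.coe_mul, Subgroup.coe_mul, Subgroup.coe_mul, Subgroup.coe_mul, hπ i j hij, hπ j i hij.symm,
    h3, h4, h2, h1, Int.cast_one, one_mul, one_mul]
  show _ = hG hp6.inList (chevE6.simple k) (-1)
  rw [hG_def, nG_def, e]
  simp only [mul_assoc]


/-- `-1` -/
noncomputable def z6 (F : Type) [Field F] : SL6 F :=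
  Matrix.SpecialLinearGroup.diag2n (show (0 : Fin 6) ≠ 1 by decide) (-1) neg_ne *
    Matrix.SpecialLinearGroup.diag2n (show (2 : Fin 6) ≠ 3 by decide) (-1) neg_ne *
    Matrix.SpecialLinearGroup.diag2n (show (4 : Fin 6) ≠ 5 by decide) (-1) neg_ne

theorem coe_z6 : (z6 F : Matrix (Fin 6) (Fin 6) F) = -1 := by
  rw [z6, Matrix.SpecialLinearGroup.coe_mul, Matrix.SpecialLinearGroup.coe_mul, Matrix.SpecialLinearGroup.diag2n_coe,
    Matrix.SpecialLinearGroup.diag2n_coe, Matrix.SpecialLinearGroup.diag2n_coe, Matrix.diagonal_mul_diagonal,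
    Matrix.diagonal_mul_diagonal, ← Matrix.diagonal_one, Matrix.diagonal_neg]
  congr 1
  funext i
  fin_cases i <;> simp [inv_neg]

theorem z6_comm (u : SL6 F) : z6 F * u = u * z6 F := by
  apply Subtype.ext
  show (z6 F : Matrix (Fin 6) (Fin 6) F) * u.1 = u.1 * (z6 F : Matrix (Fin 6) (Fin 6) F)
  rw [coe_z6, neg_mul, one_mul, mul_neg, mul_one]

include hπ in
theorem pi_z6 : π (z6 F) = t0 F := by
  rw [z6, map_mul, map_mul, pi_diag hπ (k := 0) (by decide) (by decide +kernel) (by decide +kernel) (by decide) (by decide),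
    pi_diag hπ (k := 3) (by decide) (by decide +kernel) (by decide +kernel) (by decide) (by decide),
    pi_diag hπ (k := 5) (by decide) (by decide +kernel) (by decide +kernel) (by decide) (by decide)]
  rfl

include hπ in
theorem t0_comm (u : SL6 F) : t0 F * π u = π u * t0 F := by
  rw [← pi_z6 hπ, ← map_mul, ← map_mul, z6_comm]

include hπ in
theorem pi_t1 : π (Matrix.SpecialLinearGroup.diag2n (show (0 : Fin 6) ≠ 1 by decide) (-1) neg_ne) = t1 F :=
  pi_diag hπ (k := 0) (by decide) (by decide +kernel) (by decide +kernel) (by decide) (by decide)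

/-! ### the root `θ` -/

theorem l71 : 71 < chevE6.nroots := by decide

/-- the `SL₂` of the highest root -/
noncomputable abbrev pth (F : Type) [Field F] : SL2 F →* ↥(chevE6.group F) := ph hp6.inList l71

/-- the table check: the roots of type `A₅` are orthogonal to `±θ` -/
def chk2 : Bool := (List.finRange 6).all fun i => (List.finRange 6).all fun j =>
  decide (i = j) || (OrthB chevE6 (rE6 i j) 71 && OrthB chevE6 (rE6 i j) (chevE6.neg 71))

theorem chk2_eq : chk2 = true := by decide +kernel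

theorem lneg : chevE6.neg 71 < chevE6.nroots := by decide

include hπ in
theorem pi_comm (u : SL6 F) (g : SL2 F) : Commute (π u) (pth F g) := by
  have key : ∀ i j (hij : i ≠ j) a, Commute (π (Matrix.SpecialLinearGroup.transvection hij a)) (pth F g) := by
    intro i j hij a
    have h1 := List.all_eq_true.1 (List.all_eq_true.1 chk2_eq i (List.mem_finRange i)) j (List.mem_finRange j)
    simp only [Bool.or_eq_true, decide_eq_true_eq, hij, false_or, Bool.and_eq_true] at h1
    refine (commute_of_up_lo (pth F) _ (fun t => ?_) (fun t => ?_) g).symm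
    · refine Commute.symm (Subtype.ext ?_)
      show ((π (Matrix.SpecialLinearGroup.transvection hij a) : ↥(chevE6.group F)) : GL chevE6.Idx F) *
        phi _ F _ = phi _ F _ * _
      rw [hπ i j hij, phi_up hp6.inList l71]
      exact xG_commute hp6.inList (a5_E6.a i j hij) l71 h1.1 _ _
    · refine Commute.symm (Subtype.ext ?_)
      show ((π (Matrix.SpecialLinearGroup.transvection hij a) : ↥(chevE6.group F)) : GL chevE6.Idx F) *
        phi _ F _ = phi _ F _ * _
      rw [hπ i j hij, phi_lo hp6.inList l71]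
      exact xG_commute hp6.inList (a5_E6.a i j hij) lneg h1.2 _ _
  refine Cfsg.Agent.LieClassical.SLGen.transvection_induction (fun u => Commute (π u) (pth F g)) key ?_ u
  intro A B hA hB
  rw [map_mul]
  exact hA.mul_left hB

/-- the table check: the roots centralised by `t0` -/
def chk3 : Bool := (List.range 72).all fun r =>
  decide ((chevE6.cartan 0 r + chevE6.cartan 3 r + chevE6.cartan 5 r) % 2 ≠ 0) || Nat.beq r 71 || Nat.beq r (chevE6.neg 71) ||
    (List.finRange 6).any fun i => (List.finRange 6).any fun j => decide (i ≠ j) && Nat.beq r (rE6 i j)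

theorem chk3_eq : chk3 = true := by decide +kernel

variable (p : ℕ) [Fact p.Prime] [CharP F p] (h2 : (2 : F) ≠ 0)

include hπ p h2 in
theorem MM_le : MM cs6 hp6.isCartan (XX chevE6 6 F) (ch hp6) (t0 F) ≤ π.range ⊔ (pth F).range := by
  refine RGD.Sup_le fun z hz => ?_
  obtain ⟨hz1, hz2⟩ := hz
  obtain ⟨r, hr, rfl⟩ := (isRoot_iff hp6 cs6 z).1 hz1
  have hr' : r < 72 := hr
  intro u hu
  obtain ⟨c, rfl⟩ := (((coords (K := F) hp6 cs6 p).coord _ hz1).mem u).1 hu
  have h1 := List.all_eq_true.1 chk3_eq r (List.mem_range.2 hr')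
  simp only [Bool.or_eq_true, decide_eq_true_eq, List.any_eq_true, List.mem_finRange, true_and, Bool.and_eq_true] at h1
  rcases h1 with ((h1 | h1) | h1) | ⟨i, j, hij, h1⟩
  · exfalso
    rw [ch_t0 p hr'] at hz2
    have h3 : Odd (chevE6.cartan 0 r + chevE6.cartan 3 r + chevE6.cartan 5 r) := by
      rw [Int.odd_iff]; omega
    rw [h3.neg_one_zpow] at hz2
    apply h2
    linear_combination -hz2
  · refine Subgroup.mem_sup_right ⟨SL2Hom.up c, Subtype.ext ?_⟩
    rw [Nat.eq_of_beq_eq_true h1, coe_xc hp6 l71]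
    exact phi_up hp6.inList l71 c
  · refine Subgroup.mem_sup_right ⟨SL2Hom.lo c, Subtype.ext ?_⟩
    rw [Nat.eq_of_beq_eq_true h1, coe_xc hp6 lneg]
    exact phi_lo hp6.inList l71 c
  · refine Subgroup.mem_sup_left ⟨Matrix.SpecialLinearGroup.transvection hij ((sE6 i j : F) * c), Subtype.ext ?_⟩
    rw [Nat.eq_of_beq_eq_true h1, coe_xc hp6 (a5_E6.a i j hij), hπ i j hij, ← mul_assoc, ss, one_mul]

/-! ### counting -/

/-- the first row of a unipotent matrix -/
noncomputable def uu (v : Fin 4 → F) : SL6 F :=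
  Matrix.SpecialLinearGroup.transvection (show (0 : Fin 6) ≠ 1 by decide) (v 0) *
    Matrix.SpecialLinearGroup.transvection (show (0 : Fin 6) ≠ 2 by decide) (v 1) *
    Matrix.SpecialLinearGroup.transvection (show (0 : Fin 6) ≠ 3 by decide) (v 2) *
    Matrix.SpecialLinearGroup.transvection (show (0 : Fin 6) ≠ 4 by decide) (v 3)

theorem coe_uu (v : Fin 4 → F) : (uu v : Matrix (Fin 6) (Fin 6) F) =
    1 + Matrix.single 0 1 (v 0) + Matrix.single 0 2 (v 1) + Matrix.single 0 3 (v 2) + Matrix.single 0 4 (v 3) := by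
  show (1 + Matrix.single 0 1 (v 0)) * (1 + Matrix.single 0 2 (v 1)) * (1 + Matrix.single 0 3 (v 2)) *
    (1 + Matrix.single 0 4 (v 3)) = _
  have h : ∀ (i j : Fin 6) (a b : F), i ≠ 0 →
      Matrix.single (0 : Fin 6) i a * Matrix.single (0 : Fin 6) j b = 0 := fun i j a b hi =>
    Matrix.single_mul_single_of_ne _ _ _ _ hi _
  simp only [mul_add, add_mul, one_mul, mul_one, h 1 2 _ _ (by decide), h 1 3 _ _ (by decide), h 2 3 _ _ (by decide),
    h 1 4 _ _ (by decide), h 2 4 _ _ (by decide), h 3 4 _ _ (by decide), add_zero]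

theorem uu_inj {v w : Fin 4 → F} {c : F} (h : (uu v : Matrix (Fin 6) (Fin 6) F) = c • (uu w : Matrix (Fin 6) (Fin 6) F)) :
    v = w := by
  rw [coe_uu, coe_uu] at h
  have h5 : (1 : F) = c := by
    have := congrFun (congrFun h 5) 5
    simpa [Matrix.add_apply, Matrix.smul_apply, Matrix.single_apply] using this
  subst h5
  rw [one_smul] at h
  funext k
  fin_cases k
  · have := congrFun (congrFun h 0) 1
    simpa [Matrix.add_apply, Matrix.single_apply] using this
  · have := congrFun (congrFun h 0) 2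
    simpa [Matrix.add_apply, Matrix.single_apply] using this
  · have := congrFun (congrFun h 0) 3
    simpa [Matrix.add_apply, Matrix.single_apply] using this
  · have := congrFun (congrFun h 0) 4
    simpa [Matrix.add_apply, Matrix.single_apply] using this

/-- a homomorphism of `SL₆` to a small group is trivial -/
theorem hom_trivial {Y : Type*} [Group Y] [Finite Y] (hY : Nat.card Y < Nat.card F ^ 4) (f : SL6 F →* Y) (g : SL6 F) :
    f g = 1 := by
  by_contra hg
  have hk := Cfsg.Agent.H321.Ker.ker_le_center (n := 6) (by norm_num) (ψ := f) ⟨g, hg⟩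
  have hinj : Function.Injective (fun v : Fin 4 → F => f (uu v)) := by
    intro v w hvw
    have h1 : uu v * (uu w)⁻¹ ∈ f.ker := by
      rw [MonoidHom.mem_ker, map_mul, map_inv]
      exact mul_inv_eq_one.2 hvw
    obtain ⟨c, -, hc⟩ := Matrix.SpecialLinearGroup.mem_center_iff.1 (hk h1)
    apply uu_inj (c := c)
    have h2 : (uu v : Matrix (Fin 6) (Fin 6) F) = ((uu v * (uu w)⁻¹ : SL6 F) : Matrix (Fin 6) (Fin 6) F) * (uu w).1 := by
      rw [← Matrix.SpecialLinearGroup.coe_mul, inv_mul_cancel_right]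
    rw [h2, ← hc, Matrix.scalar_apply, ← Matrix.smul_one_eq_diagonal, Matrix.smul_mul, one_mul]
  have h1 := Nat.card_le_card_of_injective _ hinj
  rw [Nat.card_fun, Nat.card_eq_fintype_card (α := Fin 4), Fintype.card_fin] at h1
  exact absurd h1 (not_le.2 hY)

theorem card_sl2 : Nat.card (SL2 F) < Nat.card F ^ 4 := by
  have : Fintype F := Fintype.ofFinite F
  have h1 : Nat.card (Matrix (Fin 2) (Fin 2) F) = Nat.card F ^ 4 := by
    show Nat.card (Fin 2 → Fin 2 → F) = _
    rw [Nat.card_fun, Nat.card_fun, Nat.card_eq_fintype_card (α := Fin 2), Fintype.card_fin, ← pow_mul]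
  rw [← h1]
  refine lt_of_le_of_ne (Nat.card_le_card_of_injective _ Subtype.val_injective) fun h2 => ?_
  have h3 : Function.Bijective (Subtype.val : SL2 F → Matrix (Fin 2) (Fin 2) F) :=
    (Nat.bijective_iff_injective_and_card _).2 ⟨Subtype.val_injective, h2⟩
  obtain ⟨g, hg⟩ := h3.2 0
  have h4 := g.2
  rw [show g.1 = 0 from hg, Matrix.det_zero] at h4
  exact zero_ne_one h4

/-! ### automorphisms -/

include hπ p h2 in
/-- **The automorphisms fixing `t0` preserve the image of `SL₆(F)`.** -/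
theorem map_mem {α : MulAut ↥(chevE6.group F)} (hα : α (t0 F) = t0 F) (u : SL6 F) : α (π u) ∈ π.range := by
  classical
  have hfin : Finite ↥(chevE6.group F) := inferInstance
  -- the hull `L * L_θ`
  let κ : SL6 F × SL2 F →* ↥(chevE6.group F) := MonoidHom.noncommCoprod π (pth F) (fun m n => pi_comm hπ m n)
  have hκ : κ.range = π.range ⊔ (pth F).range := MonoidHom.noncommCoprod_range _ _ _
  have hκa : ∀ x y, κ (x, y) = π x * pth F y := fun _ _ => rfl
  -- `α L` is perfect and centralises `t0`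
  let β : SL6 F →* ↥(chevE6.group F) := α.toMonoidHom.comp π
  have hβ : ∀ x, β x = α (π x) := fun _ => rfl
  have hJ : ⁅β.range, β.range⁆ = β.range := by
    rw [MonoidHom.range_eq_map, ← Subgroup.map_commutator, ← commutator_def,
      Cfsg.Agent.LieClassical.SLGen.commutator_eq_top (by rw [Fintype.card_fin]; norm_num)]
  have hJC : β.range ≤ centralizer {t0 F} := by
    rintro _ ⟨x, rfl⟩
    rw [mem_centralizer_singleton_iff, hβ]
    have h1 := congrArg α (t0_comm hπ x)
    rw [map_mul, map_mul, hα] at h1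
    exact h1.symm
  have ht2 : t0 F ^ 2 = 1 := by
    rw [← pi_z6 hπ, ← map_pow]
    have : z6 F ^ 2 = 1 := by
      apply Subtype.ext
      rw [Matrix.SpecialLinearGroup.coe_pow, coe_z6, neg_one_sq, Matrix.SpecialLinearGroup.coe_one]
    rw [this, map_one]
  have hM : β.range ≤ κ.range := by
    rw [hκ]
    exact (TorChev.perfect_le hp6 cs6 p t0_mem Nat.prime_two ht2 hJC hJ).trans (MM_le hπ p h2)
  -- the quotient
  let N : Subgroup κ.range := π.range.subgroupOf κ.range
  have hN : N.Normal := by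
    constructor
    rintro ⟨a, ha⟩ haN ⟨b, hb⟩
    rw [Subgroup.mem_subgroupOf] at haN ⊢
    obtain ⟨⟨x, y⟩, rfl⟩ := hb
    obtain ⟨z, hz⟩ := haN
    have hz' : π z = a := hz
    show κ (x, y) * a * (κ (x, y))⁻¹ ∈ π.range
    rw [← hz', hκa]
    have h1 : pth F y * π z = π z * pth F y := (pi_comm hπ z y).eq.symm
    refine ⟨x * z * x⁻¹, ?_⟩
    rw [map_mul, map_mul, map_inv]
    calc π x * π z * (π x)⁻¹ = π x * (π z * pth F y) * (pth F y)⁻¹ * (π x)⁻¹ := by group
      _ = π x * (pth F y * π z) * (pth F y)⁻¹ * (π x)⁻¹ := by rw [h1]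
      _ = _ := by group
  let q : SL6 F →* κ.range ⧸ N := (QuotientGroup.mk' N).comp
    (β.codRestrict κ.range fun x => hM ⟨x, rfl⟩)
  have hcard : Nat.card (κ.range ⧸ N) < Nat.card F ^ 4 := by
    refine lt_of_le_of_lt ?_ (card_sl2 (F := F))
    let s : SL2 F → κ.range ⧸ N := fun y => QuotientGroup.mk ⟨κ (1, y), ⟨(1, y), rfl⟩⟩
    have hs : Function.Surjective s := by
      intro x
      obtain ⟨⟨a, ha⟩, rfl⟩ := QuotientGroup.mk_surjective x
      obtain ⟨⟨x, y⟩, rfl⟩ := ha
      refine ⟨y, ?_⟩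
      rw [QuotientGroup.eq, Subgroup.mem_subgroupOf]
      show (κ (1, y))⁻¹ * κ (x, y) ∈ π.range
      refine ⟨x, ?_⟩
      rw [hκa, hκa, map_one, one_mul, (pi_comm hπ x y).eq, inv_mul_cancel_left]
    exact Nat.card_le_card_of_surjective s hs
  have h1 := hom_trivial hcard q u
  have h3 : (⟨β u, hM ⟨u, rfl⟩⟩ : κ.range) ∈ N := (QuotientGroup.eq_one_iff _).1 h1
  rw [Subgroup.mem_subgroupOf] at h3
  exact h3

/-- **T9, split.** -/
theorem sixJ (hp2 : p ≠ 2) : SixJ ↥(chevE6.group F) (t0 F) := by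
  have h2 : (2 : F) ≠ 0 := by
    intro h
    have h1 : ((2 : ℕ) : F) = 0 := by exact_mod_cast h
    rw [CharP.cast_eq_zero_iff F p] at h1
    exact hp2 ((Nat.prime_dvd_prime_iff_eq Fact.out Nat.prime_two).1 h1)
  obtain ⟨π, hπ, hker⟩ := exists_pi (F := F)
  have hE : CharP (H308.CA.Ex F) p := Cfsg.Agent.H206.CA.charP_ex.2 inferInstance
  refine ⟨p, Fact.out, hp2, H308.CA.Ex F, inferInstance, inferInstance, H308.CA.Good.lin F _ inferInstance, hE,
    π.comp (Cfsg.Agent.H683.CA.toSL (ι := Fin 6) (F := F)).toMonoidHom, ?_, ?_, ?_, ?_⟩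
  · intro u hu
    have h3 : Cfsg.Agent.H683.CA.toSL u ∈ center (SL6 F) := hker hu
    rw [mem_center_iff] at h3 ⊢
    intro g
    apply (Cfsg.Agent.H683.CA.toSL (ι := Fin 6) (F := F)).injective
    rw [map_mul, map_mul]
    exact h3 _
  · intro α hα u
    obtain ⟨v, hv⟩ := map_mem hπ p h2 hα (Cfsg.Agent.H683.CA.toSL u)
    refine ⟨(Cfsg.Agent.H683.CA.toSL (ι := Fin 6) (F := F)).symm v, ?_⟩
    show α (π (Cfsg.Agent.H683.CA.toSL u)) = π (Cfsg.Agent.H683.CA.toSL (Cfsg.Agent.H683.CA.toSL.symm v))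
    rw [MulEquiv.apply_symm_apply, hv]
  · intro u
    exact t0_comm hπ _
  · intro u hu
    have h3 : Cfsg.Agent.H683.CA.toSL u =
        Matrix.SpecialLinearGroup.diag2n (show (0 : Fin 6) ≠ 1 by decide) (-1) neg_ne := by
      apply Subtype.ext
      rw [Cfsg.Agent.H683.CA.coe_toSL, hu, Matrix.SpecialLinearGroup.diag2n_coe]
      ext i j
      show Cfsg.Agent.H683.CA.e1 (Matrix.diagonal _ i j) = _
      by_cases hij : i = j
      · subst hij
        rw [Matrix.diagonal_apply_eq, Matrix.diagonal_apply_eq]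
        fin_cases i <;> simp [inv_neg]
      · rw [Matrix.diagonal_apply_ne _ hij, Matrix.diagonal_apply_ne _ hij, map_zero]
    have h4 : π (Cfsg.Agent.H683.CA.toSL u) = t1 F := by rw [h3, pi_t1 hπ]
    show IsConj (π (Cfsg.Agent.H683.CA.toSL u)) (t0 F) ∧ π (Cfsg.Agent.H683.CA.toSL u) ≠ t0 F
    rw [h4]
    refine ⟨isConj_t1_t0 p, fun h5 => ?_⟩
    have h6 := ch_sr (F := F) p 1
    rw [← h5, ← vec_simple hp6 1, ch_t1 (simple_lt hp6.inList (lt_rank hp6 1)), if_pos rfl,
      show chevE6.cartan 0 (chevE6.simple ((1 : Fin 6) : ℕ)) = 0 by decide +kernel, zpow_zero] at h6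
    apply h2
    linear_combination h6

end Cfsg.Agent.H518.Carter.SixSplit
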