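import Cfsg.Agent.H518.Carter.SixSplit

/-!
# `t0` in common form, split case (helper518, S3852, T9)
-/

set_option autoImplicit false
set_option linter.unusedSectionVars false

namespace Cfsg.Agent.H518.Carter.SixSplit

open CoxeterSystem Subgroup Cfsg Cfsg.Lie Cfsg.Lie.ChevalleyDatum
open Cfsg.Agent.ChevalleyStructure Cfsg.Agent.ChevalleyStructure.Elts Cfsg.Agent.ChevalleyStructure.CoxeterGeom
  Cfsg.Agent.ChevalleyStructure.CoxeterGeomTypes Cfsg.Agent.ChevalleyStructure.NPerm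
open Cfsg.Agent.Tits.Roots Cfsg.Agent.Tits.Core Cfsg.Agent.Nodes Cfsg.Agent.Nodes.Reps Cfsg.Agent.Nodes.BNOf
  Cfsg.Agent.Nodes.RGDChev Cfsg.Agent.Nodes.Bruhat
open Cfsg.Agent.KFacts.RgdField Cfsg.Agent.KFacts.RgdChevCoord
open Cfsg.Agent.BpExc Cfsg.Agent.BpExc.TorCent Cfsg.Agent.BpExc.TorChev Cfsg.Agent.BpExc.TowChev
open Cfsg.Agent.H720.TwFr Cfsg.Agent.GpExc.Field
open Cfsg.Agent.H607.Car

variable {F : Type} [Field F] [Finite F]

/-- `t0 F` is the `t0` of the common form, for the embedding `emb` of `E₆(F)` in `E₆(k)` -/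
theorem isT0 (r : ℕ) [Fact r.Prime] [CharP F r] (f : F →+* Kb r) :
    IsT0 r (emb hp6.inList f) (t0 F) := by
  refine ⟨1, emb hp6.inList f (t0 F), emb_T hp6 f ⟨t0 F, t0_mem, rfl⟩, by rw [one_mul, inv_one, mul_one], fun i => ?_⟩
  rw [← vec_simple hp6 i, emb_ch hp6 f (simple_lt hp6.inList (lt_rank hp6 i)) t0_mem, vec_simple hp6 i, ch_sr r i]
  split_ifs <;> simp

/-- `t0` has order two -/
theorem orderOf_t0 (p : ℕ) [Fact p.Prime] [CharP F p] (hp2 : p ≠ 2) : orderOf (t0 F) = 2 := by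
  have : Fact (Nat.Prime 2) := ⟨Nat.prime_two⟩
  obtain ⟨π, hπ, -⟩ := exists_pi (F := F)
  apply orderOf_eq_prime
  · rw [← pi_z6 hπ, ← map_pow]
    have : z6 F ^ 2 = 1 := by
      apply Subtype.ext
      rw [Matrix.SpecialLinearGroup.coe_pow, coe_z6, neg_one_sq, Matrix.SpecialLinearGroup.coe_one]
    rw [this, map_one]
  · intro h
    have h6 := ch_sr (F := F) p 1
    have C := (coords (K := F) hp6 cs6 p).coord _ (isRoot_sr cs6 hp6.isCartan 1)
    have h3 := C.chi_mul (one_mem (TT chevE6 F)) (one_mem _)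
    rw [mul_one] at h3
    have h4 : ch hp6 (sr 1) (1 : ↥(chevE6.group F)) = 1 := (mul_eq_left₀ (C.chi_ne_zero (one_mem _))).1 h3.symm
    rw [h, h4, if_pos rfl] at h6
    have h2 : ((2 : ℕ) : F) = 0 := by push_cast; linear_combination h6
    rw [CharP.cast_eq_zero_iff F p] at h2
    exact hp2 ((Nat.prime_dvd_prime_iff_eq Fact.out Nat.prime_two).1 h2)

end Cfsg.Agent.H518.Carter.SixSplit
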