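import Cfsg.Agent.H518.Carter.T0
import Cfsg.Agent.H120.SLHom
import Cfsg.Agent.H92.ExcSL2

/-!
# The involutions of the torus of `E₆(q)` (helper518, S3852, T9)

* `ext_TT` : the elements of the torus are separated by the characters;
* `t1 = h_{α₁}(-1)`, `t0 = h_θ(-1)`; `isConj_t1_t0`.
-/

set_option autoImplicit false
set_option linter.unusedSectionVars false

namespace Cfsg.Agent.H518.Carter.SixSplit

open CoxeterSystem Subgroup Cfsg Cfsg.Lie Cfsg.Lie.ChevalleyDatum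
open Cfsg.Agent.ChevalleyStructure Cfsg.Agent.ChevalleyStructure.Elts Cfsg.Agent.ChevalleyStructure.CoxeterGeom
  Cfsg.Agent.ChevalleyStructure.CoxeterGeomTypes Cfsg.Agent.ChevalleyStructure.NPerm
open Cfsg.Agent.Tits.Roots Cfsg.Agent.Tits.Core Cfsg.Agent.Nodes Cfsg.Agent.Nodes.Reps Cfsg.Agent.Nodes.BNOf
  Cfsg.Agent.Nodes.RGDChev Cfsg.Agent.Nodes.Bruhat
open Cfsg.Agent.KFacts.RgdField Cfsg.Agent.KFacts.RgdChevCoord
open Cfsg.Agent.BpExc Cfsg.Agent.BpExc.TorCent Cfsg.Agent.BpExc.TorChev Cfsg.Agent.BpExc.Tow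
open Cfsg.Agent.BpExc.TowChev Cfsg.Agent.BpExc.Fr Cfsg.Agent.BpExc.LangFr
open Cfsg.Agent.BpExc.FamUntw
open Cfsg.Agent.H696.GmnToral Cfsg.Agent.H720.TwFr
open Cfsg.Agent.H607.Car

theorem neg_ne {F : Type} [Field F] : (-1 : F) ≠ 0 := neg_ne_zero.2 one_ne_zero

variable {F : Type} [Field F] [Finite F] (p : ℕ) [Fact p.Prime] [CharP F p]

theorem isRoot_vec {r : ℕ} (hr : r < 72) : IsRoot cs6 hp6.isCartan (vec chevE6 6 r) :=
  (isRoot_iff hp6 cs6 _).2 ⟨r, hr, rfl⟩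

theorem center_bot : Subgroup.center ↥(chevE6.group F) = ⊥ := by
  obtain ⟨hs, hc⟩ := Cfsg.Agent.S1054.result (F := F) chevE6 (by simp)
  have := hs
  have hn : (Subgroup.center ↥(chevE6.group F)).Normal := inferInstance
  rcases hn.eq_bot_or_eq_top with h | h
  · exact h
  · exfalso
    apply hc
    exact ⟨⟨fun a b => (Subgroup.mem_center_iff.1 (by rw [h]; trivial : b ∈ Subgroup.center ↥(chevE6.group F)) a)⟩⟩

include p in
theorem ext_TT {s t : ↥(chevE6.group F)} (hs : s ∈ TT chevE6 F) (ht : t ∈ TT chevE6 F)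
    (h : ∀ r < 72, ch hp6 (vec chevE6 6 r) s = ch hp6 (vec chevE6 6 r) t) : s = t := by
  have C := coords (K := F) hp6 cs6 p
  have h1 : ∀ g : ↥(chevE6.group F), (s⁻¹ * t) * g = g * (s⁻¹ * t) := by
    intro g
    refine FamExt.group_induction hp6 (P := fun g => (s⁻¹ * t) * g = g * (s⁻¹ * t)) (by rw [mul_one, one_mul]) ?_ ?_ ?_ g
    · intro a b ha hb
      rw [← mul_assoc, ha, mul_assoc, hb, mul_assoc]
    · intro a ha
      rw [mul_inv_eq_iff_eq_mul, mul_assoc, ha, inv_mul_cancel_left]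
    · intro r hr x
      have hr' : r < 72 := hr
      have h2 := (C.coord _ (isRoot_vec hr')).act s hs x
      have h3 := (C.coord _ (isRoot_vec hr')).act t ht x
      rw [← h r hr', ← h2] at h3
      calc s⁻¹ * t * xc hp6 (vec chevE6 6 r) x = s⁻¹ * (t * xc hp6 (vec chevE6 6 r) x * t⁻¹) * t := by group
        _ = s⁻¹ * (s * xc hp6 (vec chevE6 6 r) x * s⁻¹) * t := by rw [h3]
        _ = xc hp6 (vec chevE6 6 r) x * (s⁻¹ * t) := by group
  have h2 : s⁻¹ * t ∈ Subgroup.center ↥(chevE6.group F) := Subgroup.mem_center_iff.2 fun g => (h1 g).symm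
  rw [center_bot, Subgroup.mem_bot] at h2
  exact inv_mul_eq_one.1 h2

/-- `h_{α₁}(-1)` -/
noncomputable def t1 (F : Type) [Field F] : ↥(chevE6.group F) := hc hp6 0 (-1)

/-- `h_θ(-1)` -/
noncomputable def t0 (F : Type) [Field F] : ↥(chevE6.group F) := hc hp6 0 (-1) * hc hp6 3 (-1) * hc hp6 5 (-1)

theorem t1_mem : t1 F ∈ TT chevE6 F := hc_mem hp6 0 neg_ne

theorem t0_mem : t0 F ∈ TT chevE6 F := mul_mem (mul_mem (hc_mem hp6 0 neg_ne) (hc_mem hp6 3 neg_ne)) (hc_mem hp6 5 neg_ne)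

theorem ch_t1 {r : ℕ} (hr : r < 72) : ch hp6 (vec chevE6 6 r) (t1 F) = (-1) ^ chevE6.cartan 0 r :=
  ch_hc hp6 0 neg_ne hr

include p in
theorem ch_t0 {r : ℕ} (hr : r < 72) : ch hp6 (vec chevE6 6 r) (t0 F) =
    (-1) ^ (chevE6.cartan 0 r + chevE6.cartan 3 r + chevE6.cartan 5 r) := by
  have C := (coords (K := F) hp6 cs6 p).coord _ (isRoot_vec hr)
  rw [t0, C.chi_mul (mul_mem (hc_mem hp6 0 neg_ne) (hc_mem hp6 3 neg_ne)) (hc_mem hp6 5 neg_ne),
    C.chi_mul (hc_mem hp6 0 neg_ne) (hc_mem hp6 3 neg_ne), ch_hc hp6 0 neg_ne hr, ch_hc hp6 3 neg_ne hr,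
    ch_hc hp6 5 neg_ne hr, zpow_add₀ neg_ne, zpow_add₀ neg_ne]
  rfl

/-- the action of a word on the roots -/
def rfw (w : List (Fin 6)) (r : ℕ) : ℕ := w.foldr (fun i s => chevE6.reflectRoot i s) r

/-- a word from `α₁` to `θ` -/
def w0 : List (Fin 6) := [1, 3, 4, 5, 2, 3, 4, 1, 3, 2]

theorem rfw_lt {w : List (Fin 6)} {r : ℕ} (hr : r < 72) : rfw w r < 72 := by
  induction w with
  | nil => exact hr
  | cons i w ih => exact reflectRoot_lt hp6.inList (lt_rank hp6 i) ih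

include p in
theorem exists_conj (w : List (Fin 6)) {t : ↥(chevE6.group F)} (ht : t ∈ TT chevE6 F) :
    ∃ g : ↥(chevE6.group F), g * t * g⁻¹ ∈ TT chevE6 F ∧
      ∀ r < 72, ch hp6 (vec chevE6 6 (rfw w r)) (g * t * g⁻¹) = ch hp6 (vec chevE6 6 r) t := by
  have R := rgd (K := F) hp6 cs6 p
  induction w with
  | nil => exact ⟨1, by simpa using ht, fun r hr => by simp [rfw]⟩
  | cons i w ih =>
    obtain ⟨g, hg, h⟩ := ih
    have h1 : nc hp6 F i * (g * t * g⁻¹) * (nc hp6 F i)⁻¹ ∈ TT chevE6 F :=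
      (Subgroup.mem_normalizer_iff.1 (R.nsys.norm i) _).1 hg
    have e : nc hp6 F i * g * t * (nc hp6 F i * g)⁻¹ = nc hp6 F i * (g * t * g⁻¹) * (nc hp6 F i)⁻¹ := by group
    refine ⟨nc hp6 F i * g, by rw [e]; exact h1, fun r hr => ?_⟩
    rw [e]
    exact (chi_n hp6 (rfw_lt hr) hg h1).trans (h r hr)

/-- the table check -/
def chk : Bool := (List.range 72).all fun r => Nat.beq (rfw w0 (rfw w0.reverse r)) r &&
  decide ((chevE6.cartan 0 r + chevE6.cartan 3 r + chevE6.cartan 5 r - chevE6.cartan 0 (rfw w0.reverse r)) % 2 = 0)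

theorem chk_eq : chk = true := by decide +kernel

theorem neg_one_zpow_of_even {a b : ℤ} (h : (a - b) % 2 = 0) : (-1 : F) ^ a = (-1) ^ b := by
  have h1 : a = b + (a - b) := by ring
  rw [h1, zpow_add₀ neg_ne, (Int.even_iff.2 h).neg_one_zpow, mul_one]

include p in
theorem isConj_t1_t0 : IsConj (t1 F) (t0 F) := by
  obtain ⟨g, hg, h⟩ := exists_conj p w0 (t1_mem (F := F))
  rw [isConj_iff]
  refine ⟨g, ext_TT p hg t0_mem fun r hr => ?_⟩
  have h1 := List.all_eq_true.1 chk_eq r (List.mem_range.2 hr)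
  simp only [Bool.and_eq_true, decide_eq_true_eq] at h1
  have h2 := h (rfw w0.reverse r) (rfw_lt hr)
  rw [Nat.eq_of_beq_eq_true h1.1] at h2
  rw [h2, ch_t1 (rfw_lt hr), ch_t0 p hr]
  exact (neg_one_zpow_of_even h1.2).symm

include p in
theorem ch_sr (i : Fin 6) : ch hp6 (sr i) (t0 F) = if i = 1 then -1 else 1 := by
  rw [← vec_simple hp6 i, ch_t0 p (simple_lt hp6.inList (lt_rank hp6 i))]
  have h : ∀ i : Fin 6, (chevE6.cartan 0 (chevE6.simple i) + chevE6.cartan 3 (chevE6.simple i) +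
      chevE6.cartan 5 (chevE6.simple i) - (if i = 1 then 1 else 0)) % 2 = 0 := by decide +kernel
  rw [neg_one_zpow_of_even (h i)]
  split_ifs <;> simp

end Cfsg.Agent.H518.Carter.SixSplit
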