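import Cfsg.Agent.H518.Carter.SixSplit
import Cfsg.Agent.H346.Car.TwMat
import Cfsg.Agent.H55.CO.Perf
import Cfsg.Agent.S0278
import Cfsg.Agent.S0279

/-!
# The component `SU₆(q)` of the centraliser of `t0` in `²E₆(q)`: invariance (helper518, S3852, T9)

* `range_le` : a perfect subgroup of `C(t0)` without small images lies in the image of `SL₆(K)`;
* `su_trivial` : `SU₆(q)` has no nontrivial homomorphism to a group of order `< q ^ 8`;
* `map_tw`.
-/

set_option autoImplicit false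
set_option linter.unusedSectionVars false

namespace Cfsg.Agent.H518.Carter.SixSplit

open CoxeterSystem Subgroup Cfsg Cfsg.Lie Cfsg.Lie.ChevalleyDatum
open Cfsg.Agent.ChevalleyStructure Cfsg.Agent.ChevalleyStructure.Elts Cfsg.Agent.ChevalleyStructure.CoxeterGeom
  Cfsg.Agent.ChevalleyStructure.CoxeterGeomTypes Cfsg.Agent.ChevalleyStructure.NPerm
open Cfsg.Agent.Tits.Roots Cfsg.Agent.Tits.Core Cfsg.Agent.Nodes Cfsg.Agent.Nodes.Reps Cfsg.Agent.Nodes.BNOf
  Cfsg.Agent.Nodes.RGDChev Cfsg.Agent.Nodes.Bruhat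
open Cfsg.Agent.KFacts.RgdField Cfsg.Agent.KFacts.RgdChevCoord
open Cfsg.Agent.BpExc Cfsg.Agent.BpExc.TorCent Cfsg.Agent.BpExc.TorChev
open Cfsg.Agent.H720.TwFr
open Cfsg.Agent.H607.Car
open Cfsg.Agent.H92.ExcSL2 (SL2)
open Cfsg.Agent.H346.Car (ta Bas Ps ta_Ps exists_Ps)
open scoped commutatorElement

section

variable {F : Type} [Field F] [Finite F] {π : SL6 F →* ↥(chevE6.group F)} (hπ : IsPi π)
  (p : ℕ) [Fact p.Prime] [CharP F p] (h2 : (2 : F) ≠ 0)

include hπ p h2 in
/-- **Perfect subgroups of `C(t0)` without small images lie in the image of `SL₆`.** -/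
theorem range_le {P : Type} [Group P] (hP : commutator P = ⊤)
    (hs : ∀ (Y : Type) [Group Y] [Finite Y] (f : P →* Y), Nat.card Y < Nat.card F ^ 4 → ∀ g, f g = 1)
    {β : P →* ↥(chevE6.group F)} (hJC : β.range ≤ centralizer {t0 F}) : β.range ≤ π.range := by
  classical
  have hfin : Finite ↥(chevE6.group F) := inferInstance
  let κ : SL6 F × SL2 F →* ↥(chevE6.group F) := MonoidHom.noncommCoprod π (pth F) (fun m n => pi_comm hπ m n)
  have hκ : κ.range = π.range ⊔ (pth F).range := MonoidHom.noncommCoprod_range _ _ _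
  have hκa : ∀ x y, κ (x, y) = π x * pth F y := fun _ _ => rfl
  have hJ : ⁅β.range, β.range⁆ = β.range := by
    rw [MonoidHom.range_eq_map, ← Subgroup.map_commutator, ← _root_.commutator_def, hP]
  have ht2 : t0 F ^ 2 = 1 := by
    rw [← pi_z6 hπ, ← map_pow]
    have : z6 F ^ 2 = 1 := by
      apply Subtype.ext
      rw [Matrix.SpecialLinearGroup.coe_pow, coe_z6, neg_one_sq, Matrix.SpecialLinearGroup.coe_one]
    rw [this, map_one]
  have hM : β.range ≤ κ.range := by
    rw [hκ]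
    exact (TorChev.perfect_le hp6 cs6 p t0_mem Nat.prime_two ht2 hJC hJ).trans (MM_le hπ p h2)
  let N : Subgroup κ.range := π.range.subgroupOf κ.range
  have hN : N.Normal := by
    constructor
    rintro ⟨a, ha⟩ haN ⟨b, hb⟩
    rw [Subgroup.mem_subgroupOf] at haN ⊢
    obtain ⟨⟨x, y⟩, rfl⟩ := hb
    obtain ⟨z, hz⟩ := haN
    have hz' : π z = a := hz
    show κ (x, y) * a * (κ (x, y))⁻¹ ∈ π.range
    rw [← hz', hκa]
    have h1 : pth F y * π z = π z * pth F y := (pi_comm hπ z y).eq.symm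
    refine ⟨x * z * x⁻¹, ?_⟩
    rw [map_mul, map_mul, map_inv]
    calc π x * π z * (π x)⁻¹ = π x * (π z * pth F y) * (pth F y)⁻¹ * (π x)⁻¹ := by group
      _ = π x * (pth F y * π z) * (pth F y)⁻¹ * (π x)⁻¹ := by rw [h1]
      _ = _ := by group
  let q : P →* κ.range ⧸ N := (QuotientGroup.mk' N).comp
    (β.codRestrict κ.range fun x => hM ⟨x, rfl⟩)
  have hcard : Nat.card (κ.range ⧸ N) < Nat.card F ^ 4 := by
    refine lt_of_le_of_lt ?_ (card_sl2 (F := F))
    let s : SL2 F → κ.range ⧸ N := fun y => QuotientGroup.mk ⟨κ (1, y), ⟨(1, y), rfl⟩⟩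
    have hs : Function.Surjective s := by
      intro x
      obtain ⟨⟨a, ha⟩, rfl⟩ := QuotientGroup.mk_surjective x
      obtain ⟨⟨x, y⟩, rfl⟩ := ha
      refine ⟨y, ?_⟩
      rw [QuotientGroup.eq, Subgroup.mem_subgroupOf]
      show (κ (1, y))⁻¹ * κ (x, y) ∈ π.range
      refine ⟨x, ?_⟩
      rw [hκa, hκa, map_one, one_mul, (pi_comm hπ x y).eq, inv_mul_cancel_left]
    exact Nat.card_le_card_of_surjective s hs
  rintro _ ⟨u, rfl⟩
  have h1 := hs _ q hcard u
  have h3 : (⟨β u, hM ⟨u, rfl⟩⟩ : κ.range) ∈ N := (QuotientGroup.eq_one_iff _).1 h1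
  rw [Subgroup.mem_subgroupOf] at h3
  exact h3

end

/-! ### `SU₆(q)` -/

section

variable {K : Type} [Field K] [Fintype K] {q : ℕ} (hK : Fintype.card K = q ^ 2)

include hK in
theorem card_su_ge : q ^ 15 ≤ Nat.card (Cfsg.SU 6 K q) := by
  have hq : 2 ≤ q := by
    rcases q with _ | _ | q
    · have := Fintype.card_pos (α := K); omega
    · have := Fintype.one_lt_card (α := K); omega
    · omega
  have h := Cfsg.Agent.S0278.result hK 6 (by norm_num)
  have e : ∏ i ∈ Finset.range 6, (if Even i then q ^ (i + 1) + 1 else q ^ (i + 1) - 1) =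
      (q + 1) * ((q ^ 2 - 1) * (q ^ 3 + 1) * (q ^ 4 - 1) * (q ^ 5 + 1) * (q ^ 6 - 1)) := by
    rw [Finset.prod_range_succ, Finset.prod_range_succ, Finset.prod_range_succ, Finset.prod_range_succ,
      Finset.prod_range_succ, Finset.prod_range_succ, Finset.prod_range_zero,
      if_pos (by decide), if_neg (by decide), if_pos (by decide), if_neg (by decide), if_pos (by decide),
      if_neg (by decide)]
    ring
  have h1 : ∀ k, k ≠ 0 → 1 ≤ q ^ k - 1 := by
    intro k hk
    have h2 : 2 ^ 1 ≤ q ^ k := (Nat.pow_le_pow_left hq 1).trans (Nat.pow_le_pow_right (by omega) (by omega))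
    omega
  have h3 : 1 ≤ (q ^ 2 - 1) * (q ^ 3 + 1) * (q ^ 4 - 1) * (q ^ 5 + 1) * (q ^ 6 - 1) := by
    have := h1 2 (by norm_num)
    have := h1 4 (by norm_num)
    have := h1 6 (by norm_num)
    have a1 : 0 < (q ^ 2 - 1) * (q ^ 3 + 1) * (q ^ 4 - 1) * (q ^ 5 + 1) * (q ^ 6 - 1) := by positivity
    exact a1
  rw [e, show (6 * (6 - 1) / 2 : ℕ) = 15 by norm_num] at h
  have h4 : (q + 1) * Nat.card (Cfsg.SU 6 K q) =
      (q + 1) * (q ^ 15 * ((q ^ 2 - 1) * (q ^ 3 + 1) * (q ^ 4 - 1) * (q ^ 5 + 1) * (q ^ 6 - 1))) := by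
    rw [h]; ring
  have h5 := Nat.eq_of_mul_eq_mul_left (by omega) h4
  rw [h5]
  exact Nat.le_mul_of_pos_right _ h3

include hK in
/-- `SU₆(q)` has no small images -/
theorem su_trivial [StarRing K] (hst : ∀ x : K, star x = x ^ q) {Y : Type} [Group Y] [Finite Y]
    (f : H308.CA.SU (Fin 6) K →* Y) (hY : Nat.card Y < Nat.card K ^ 4) (g : H308.CA.SU (Fin 6) K) : f g = 1 := by
  have hq : 2 ≤ q := by
    rcases q with _ | _ | q
    · have := Fintype.card_pos (α := K); omega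
    · have := Fintype.one_lt_card (α := K); omega
    · omega
  let κ := Cfsg.Agent.H466.CA.BridgeUni.kap (n := 6) hst
  let f' : Cfsg.SU 6 K q →* Y := f.comp κ.symm.toMonoidHom
  have hf' : ∀ u, f u = f' (κ u) := fun u => by
    show f u = f (κ.symm (κ u))
    rw [MulEquiv.symm_apply_apply]
  by_cases hc : f'.ker ≤ Subgroup.center (Cfsg.SU 6 K q)
  · exfalso
    have h1 := card_su_ge hK
    have h2 := Subgroup.card_mul_index f'.ker
    rw [Subgroup.index_ker] at h2
    have h3 : Nat.card f'.ker ≤ q + 1 := by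
      refine (Nat.card_le_card_of_injective _ (Subgroup.inclusion_injective hc)).trans ?_
      rw [Cfsg.Agent.S0279.result hK 6 (by norm_num)]
      exact Nat.le_of_dvd (by omega) (Nat.gcd_dvd_right _ _)
    have h4 : Nat.card f'.range ≤ q ^ 8 := by
      refine (Nat.card_le_card_of_injective _ f'.range.subtype_injective).trans (le_of_lt ?_)
      rw [Nat.card_eq_fintype_card (α := K), hK, ← pow_mul] at hY
      exact hY
    have h5 : Nat.card (Cfsg.SU 6 K q) ≤ (q + 1) * q ^ 8 := by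
      rw [← h2]
      exact Nat.mul_le_mul h3 h4
    have h6 : (q + 1) * q ^ 8 < q ^ 15 := by
      have h7 : q + 1 < q ^ 7 := by
        have h8 : q ^ 2 ≤ q ^ 7 := Nat.pow_le_pow_right (by omega) (by norm_num)
        nlinarith
      calc (q + 1) * q ^ 8 < q ^ 7 * q ^ 8 := Nat.mul_lt_mul_of_pos_right h7 (by positivity)
        _ = q ^ 15 := by ring
    omega
  · have h1 := Cfsg.Agent.LieClassical.HermPerfect.normal_eq_top hK (by norm_num) (by norm_num) hc
    rw [hf']
    have h2 : κ g ∈ f'.ker := by rw [h1]; trivial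
    exact h2

end

/-! ### the invariance -/

/-- **T9, twisted: the automorphisms fixing `t0` preserve the image of `SU₆`.** -/
theorem map_tw {K : Type} [Field K] [Fintype K] [StarRing K] {q : ℕ} (hK : Fintype.card K = q ^ 2)
    (hst : ∀ x : K, star x = x ^ q) (p : ℕ) [Fact p.Prime] [CharP K p] (h2 : (2 : K) ≠ 0)
    {π : SL6 K →* ↥(chevE6.group K)} (hπ : IsPi π) (hker : π.ker ≤ center (SL6 K)) {l b : K} (B : Bas l b)
    {X : Type} [Group X] {ι : X →* ↥(chevE6.group K)} (hι : Function.Injective ι)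
    (hfix : ∀ (x : X) (g : SL6 K), ι x = π g → ι x = π (ta g)) {x0 : X} (h0 : ι x0 = t0 K)
    {j : H308.CA.SU (Fin 6) K →* X} (hj : ∀ u, ι (j u) = π (Ps B u)) (α : MulAut X) (hα : α x0 = x0)
    (u : H308.CA.SU (Fin 6) K) : ∃ v, α (j u) = j v := by
  have hex : ∃ a : K, star a ≠ a := by
    by_contra hcon
    push_neg at hcon
    have h1 := B.sl
    rw [hcon l] at h1
    have h3 : (2 : K) * l = 0 := by linear_combination h1
    rcases mul_eq_zero.1 h3 with h4 | h4
    · exact h2 h4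
    · exact B.l0 h4
  have hGd : H308.CA.Gd K := H308.CA.Good.uni K _ _ inferInstance hex
  have hP : commutator (H308.CA.SU (Fin 6) K) = ⊤ :=
    Cfsg.Agent.H55.CO.su_perfect hGd (IsUnit.mk0 _ h2) (by norm_num)
  let β : H308.CA.SU (Fin 6) K →* ↥(chevE6.group K) := ι.comp (α.toMonoidHom.comp j)
  have hβ : ∀ x, β x = ι (α (j x)) := fun _ => rfl
  have hJC : β.range ≤ centralizer {t0 K} := by
    rintro _ ⟨x, rfl⟩
    rw [mem_centralizer_singleton_iff, hβ, ← h0, ← map_mul, ← map_mul]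
    congr 1
    have h1 : j x * x0 = x0 * j x := by
      apply hι
      rw [map_mul, map_mul, h0, hj]
      exact (t0_comm hπ _).symm
    have h3 := congrArg α h1
    rwa [map_mul, map_mul, hα] at h3
  have hle := range_le hπ p h2 hP (fun Y _ _ f hY g => su_trivial hK hst f hY g) hJC
  -- the subgroup `A`
  let A : Subgroup (SL6 K) :=
    { carrier := {g | ta g * g⁻¹ ∈ center (SL6 K)}
      one_mem' := by
        show ta 1 * 1⁻¹ ∈ center (SL6 K)
        rw [map_one, inv_one, mul_one]; exact one_mem _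
      mul_mem' := by
        intro g h hg hh
        have hg' : ta g * g⁻¹ ∈ center (SL6 K) := hg
        have hh' : ta h * h⁻¹ ∈ center (SL6 K) := hh
        show ta (g * h) * (g * h)⁻¹ ∈ center (SL6 K)
        have e : ta (g * h) * (g * h)⁻¹ = (ta g * g⁻¹) * (g * (ta h * h⁻¹) * g⁻¹) := by rw [map_mul]; group
        rw [e, Subgroup.mem_center_iff.1 hh' g, mul_inv_cancel_right]
        exact mul_mem hg' hh'
      inv_mem' := by
        intro g hg
        have hg' : ta g * g⁻¹ ∈ center (SL6 K) := hg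
        show ta g⁻¹ * g⁻¹⁻¹ ∈ center (SL6 K)
        have h1 := Subgroup.mem_center_iff.1 (inv_mem hg') g⁻¹
        have e : ta g⁻¹ * g⁻¹⁻¹ = (ta g * g⁻¹)⁻¹ := by
          calc ta g⁻¹ * g⁻¹⁻¹ = g⁻¹ * (g * (ta g)⁻¹) * g := by rw [map_inv]; group
            _ = g⁻¹ * (ta g * g⁻¹)⁻¹ * g := by group
            _ = (ta g * g⁻¹)⁻¹ * g⁻¹ * g := by rw [h1]
            _ = (ta g * g⁻¹)⁻¹ := by group
        rw [e]
        exact inv_mem hg' }
  have hA : ∀ g, g ∈ A ↔ ta g * g⁻¹ ∈ center (SL6 K) := fun _ => Iff.rfl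
  have hAfix : ∀ g ∈ ⁅A, A⁆, ta g = g := by
    intro g hg
    have h1 : ⁅A, A⁆ ≤ (ta (K := K)).eqLocus (MonoidHom.id (SL6 K)) := by
      rw [Subgroup.commutator_le]
      intro a ha b hb
      rw [hA] at ha hb
      show ta ⁅a, b⁆ = ⁅a, b⁆
      have ha1 : ta a = (ta a * a⁻¹) * a := by group
      have hb1 : ta b = (ta b * b⁻¹) * b := by group
      rw [map_commutatorElement, ha1, hb1]
      generalize ta a * a⁻¹ = z at ha
      generalize ta b * b⁻¹ = w at hb
      have hz := Subgroup.mem_center_iff.1 ha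
      have hw := Subgroup.mem_center_iff.1 hb
      have hz' := Subgroup.mem_center_iff.1 (inv_mem ha)
      have hw' := Subgroup.mem_center_iff.1 (inv_mem hb)
      rw [commutatorElement_def, commutatorElement_def]
      calc z * a * (w * b) * (z * a)⁻¹ * (w * b)⁻¹ = z * (a * w) * b * a⁻¹ * z⁻¹ * b⁻¹ * w⁻¹ := by group
        _ = z * (w * a) * b * a⁻¹ * z⁻¹ * b⁻¹ * w⁻¹ := by rw [hw a]
        _ = z * w * (a * b * a⁻¹ * z⁻¹) * b⁻¹ * w⁻¹ := by group
        _ = z * w * (z⁻¹ * (a * b * a⁻¹)) * b⁻¹ * w⁻¹ := by rw [hz' (a * b * a⁻¹)]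
        _ = (z * w) * z⁻¹ * ((a * b * a⁻¹ * b⁻¹) * w⁻¹) := by group
        _ = (w * z) * z⁻¹ * (w⁻¹ * (a * b * a⁻¹ * b⁻¹)) := by rw [hw z, hw' (a * b * a⁻¹ * b⁻¹)]
        _ = a * b * a⁻¹ * b⁻¹ := by group
    exact h1 hg
  -- `β.range ≤ π A`
  have hle2 : β.range ≤ A.map π := by
    rintro _ ⟨x, rfl⟩
    obtain ⟨a, ha⟩ := hle ⟨x, rfl⟩
    have h1 : ι (α (j x)) = π (ta a) := hfix _ a (by rw [← hβ, ← ha])
    have h3 : π (ta a * a⁻¹) = 1 := by
      rw [map_mul, map_inv, ← h1, ← hβ, ← ha, mul_inv_cancel]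
    exact ⟨a, hker h3, ha⟩
  have hJ : β.range = ⁅β.range, β.range⁆ := by
    rw [MonoidHom.range_eq_map, ← Subgroup.map_commutator, ← _root_.commutator_def, hP]
  have h3 : β u ∈ ⁅A, A⁆.map π := by
    rw [Subgroup.map_commutator]
    have h4 : β u ∈ ⁅β.range, β.range⁆ := by rw [← hJ]; exact ⟨u, rfl⟩
    exact Subgroup.commutator_mono hle2 hle2 h4
  obtain ⟨a, ha, hau⟩ := h3
  obtain ⟨v, hv⟩ := exists_Ps B (hAfix a ha)
  refine ⟨v, hι ?_⟩
  rw [← hβ, ← hau, hj, hv]

end Cfsg.Agent.H518.Carter.SixSplit
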