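import Cfsg.Agent.H607.Car.E6Def

/-!
# The involution `t0 = h_θ(-1)` of `E₆^ε(q)`: common form (helper518, S3852)

`t0` is conjugate in `Y = E₆(k)` to the element `t` of the torus with `ch (α_i) t = -1` for `i = 1` (the node
`α₂` of Bourbaki, joined to `-θ`) and `1` for the other nodes, i.e. `ch a t = (-1) ^ (a 1) = (-1) ^ ⟨a, θ^∨⟩`.
-/

set_option autoImplicit false

namespace Cfsg.Agent.H518.Carter

open CoxeterSystem Subgroup Cfsg Cfsg.Lie Cfsg.Lie.ChevalleyDatum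
open Cfsg.Agent.ChevalleyStructure Cfsg.Agent.ChevalleyStructure.Elts Cfsg.Agent.ChevalleyStructure.CoxeterGeom
  Cfsg.Agent.ChevalleyStructure.CoxeterGeomTypes Cfsg.Agent.ChevalleyStructure.NPerm
open Cfsg.Agent.Tits.Roots Cfsg.Agent.Tits.Core Cfsg.Agent.Nodes Cfsg.Agent.Nodes.Reps Cfsg.Agent.Nodes.BNOf
  Cfsg.Agent.Nodes.RGDChev Cfsg.Agent.Nodes.Bruhat
open Cfsg.Agent.KFacts.RgdField Cfsg.Agent.KFacts.RgdChevCoord
open Cfsg.Agent.BpExc Cfsg.Agent.BpExc.TorCent Cfsg.Agent.BpExc.TorChev Cfsg.Agent.BpExc.Tow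
open Cfsg.Agent.BpExc.TowChev Cfsg.Agent.BpExc.Fr Cfsg.Agent.BpExc.LangFr
open Cfsg.Agent.BpExc.FamUntw
open Cfsg.Agent.H696.GmnToral Cfsg.Agent.H720.TwFr
open Cfsg.Agent.H607.Car

/-- `t0` is conjugate in `Y` to `h_θ(-1)` -/
def IsT0 (r : ℕ) [Fact r.Prime] {X : Type} [Group X] (ι : X →* Yb r) (t0 : X) : Prop :=
  ∃ v t : Yb r, t ∈ Tb r ∧ ι t0 = v * t * v⁻¹ ∧ ∀ i : Fin 6, ch hp6 (sr i) t = if i = 1 then -1 else 1

end Cfsg.Agent.H518.Carter
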